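import Groth.Agent.Lib.PlaneGerm.Poly
import Mathlib.Algebra.Polynomial.Identities

/-!
# Double points of plane curves are of type `A_n` or a double line
-/

set_option autoImplicit false
set_option linter.style.haveILetI false
universe u

open IsLocalRing MvPowerSeries GrothLib.Morse Groth.Agent.Ar2

namespace GrothLib.PlaneGerm

variable {k : Type u} [Field k]

local notation "P" => MvPowerSeries (Fin 2) k
local notation "A" => PowerSeries k

/-- Newton's method in `k[[x]]`. -/
theorem exists_root (g : Polynomial A) (h0 : PowerSeries.constantCoeff (g.coeff 0) = 0)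
    (h1 : IsUnit (g.coeff 1)) : ∃ a : A, PowerSeries.constantCoeff a = 0 ∧ g.eval a = 0 := by
  obtain ⟨v, hv⟩ := h1.exists_left_inv
  let s : ℕ → A := fun n => Nat.rec 0 (fun _ b => b - g.eval b * v) n
  have hs : ∀ n, s (n + 1) = s n - g.eval (s n) * v := fun n => rfl
  have hd : ∀ b : A, PowerSeries.X ∣ b → PowerSeries.X ∣ (g.derivative.eval b * v - 1) := fun b hb => by
    have h := Polynomial.sub_dvd_eval_sub b 0 g.derivative
    rw [sub_zero] at h
    have e : g.derivative.eval 0 = g.coeff 1 := by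
      rw [← Polynomial.coeff_zero_eq_eval_zero, Polynomial.coeff_derivative]; simp
    rw [e] at h
    have := (hb.trans h).mul_right v
    rwa [sub_mul, mul_comm (g.coeff 1), hv] at this
  have hg : ∀ n, PowerSeries.X ∣ s n ∧ PowerSeries.X ^ (n + 1) ∣ g.eval (s n) := by
    intro n
    induction n with
    | zero =>
      refine ⟨dvd_zero _, ?_⟩
      rw [pow_one, show g.eval (s 0) = g.coeff 0 from (Polynomial.coeff_zero_eq_eval_zero g).symm,
        PowerSeries.X_dvd_iff]
      exact h0
    | succ n ih =>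
      obtain ⟨hX, hp⟩ := ih
      refine ⟨?_, ?_⟩
      · rw [hs]
        exact dvd_sub hX (((dvd_pow_self _ (Nat.succ_ne_zero n)).trans hp).mul_right v)
      · obtain ⟨q, hq⟩ := g.binomExpansion (s n) (-(g.eval (s n) * v))
        rw [hs, sub_eq_add_neg, hq]
        have e : g.eval (s n) + g.derivative.eval (s n) * -(g.eval (s n) * v) +
            q * (-(g.eval (s n) * v)) ^ 2 =
            g.eval (s n) * (-(g.derivative.eval (s n) * v - 1)) + q * v ^ 2 * g.eval (s n) ^ 2 := by ring
        rw [e]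
        refine dvd_add ?_ (Dvd.dvd.mul_left ?_ _)
        · rw [pow_succ]
          exact mul_dvd_mul hp (dvd_neg.2 (hd _ hX))
        · rw [pow_two]
          exact dvd_trans (pow_dvd_pow _ (by omega)) ((pow_add (PowerSeries.X : A) (n + 1) (n + 1)).symm ▸ mul_dvd_mul hp hp)
  let a : A := PowerSeries.mk fun i => PowerSeries.coeff i (s i)
  have hcauchy : ∀ i n, i ≤ n → PowerSeries.coeff i (s n) = PowerSeries.coeff i (s i) := by
    intro i n hin
    induction n, hin using Nat.le_induction with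
    | base => rfl
    | succ n hn ih =>
      rw [hs, map_sub, ih]
      have : PowerSeries.coeff i (g.eval (s n) * v) = 0 :=
        PowerSeries.X_pow_dvd_iff.1 ((hg n).2.mul_right v) i (by omega)
      rw [this, sub_zero]
  have ha : ∀ n, PowerSeries.X ^ (n + 1) ∣ a - s n := fun n => by
    rw [PowerSeries.X_pow_dvd_iff]
    intro i hi
    rw [map_sub, PowerSeries.coeff_mk, hcauchy i n (by omega), sub_self]
  refine ⟨a, ?_, ?_⟩
  · rw [← PowerSeries.coeff_zero_eq_constantCoeff_apply, PowerSeries.coeff_mk]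
    exact PowerSeries.coeff_zero_eq_constantCoeff_apply _ |>.trans (map_zero _)
  · ext i
    rw [map_zero]
    have h2 := ((ha i).trans (Polynomial.sub_dvd_eval_sub a (s i) g)).add (hg i).2
    rw [sub_add_cancel] at h2
    exact PowerSeries.X_pow_dvd_iff.1 h2 i (Nat.lt_succ_self i)

/-- Series with a non-zero constant term have square roots. -/
theorem exists_sqrt_P [IsAlgClosed k] (h2 : (2 : k) ≠ 0) (r : P) (hr : constantCoeff r ≠ 0) :
    ∃ s : P, s * s = r ∧ constantCoeff s ≠ 0 := by
  obtain ⟨c, hc⟩ := IsAlgClosed.exists_eq_mul_self (constantCoeff r)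
  have hc0 : c ≠ 0 := fun h => hr (by simp [hc, h])
  have hH : HenselianRing P (maximalIdeal P) := IsAdicComplete.henselianRing _ _
  obtain ⟨s, hs, hsc⟩ := hH.is_henselian (Polynomial.X ^ 2 - Polynomial.C r)
    (Polynomial.monic_X_pow_sub_C r two_ne_zero) (C c) (by
      rw [RegLoc.PS.mem_max k]; simp [hc, pow_two]) (by
      refine IsUnit.map _ (isUnit_iff_constantCoeff.2 ?_)
      simp [h2, hc0, isUnit_iff_ne_zero, one_add_one_eq_two, show constantCoeff (2 : P) = 2 from map_ofNat _ 2])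
  refine ⟨s, ?_, ?_⟩
  · simpa [Polynomial.IsRoot, sub_eq_zero, pow_two] using hs
  · rw [RegLoc.PS.mem_max k, map_sub, constantCoeff_C, sub_eq_zero] at hsc
    rwa [hsc]

theorem inX_X : inX (k := k) PowerSeries.X = X 0 := by
  simp [inX, PowerSeries.substAlgHom_X]

theorem constantCoeff_inX (f : A) : constantCoeff (inX f) = PowerSeries.constantCoeff f := by
  have h := cf_inX f 0 0
  have e0 : ex 0 0 = (0 : Fin 2 →₀ ℕ) := by simp [ex]
  rwa [cf, e0, if_pos rfl, coeff_zero_eq_constantCoeff_apply,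
    PowerSeries.coeff_zero_eq_constantCoeff_apply] at h

theorem lin_one_inX (f : A) : lin 1 (inX f) = 0 := by
  have h := cf_inX f 0 1
  have e1 : ex 0 1 = (Finsupp.single 1 1 : Fin 2 →₀ ℕ) := by simp [ex]
  rwa [cf, e1, if_neg one_ne_zero] at h

/-- Polynomials in `y` over `k[[x]]` as series. -/
noncomputable def ofPoly : Polynomial A →+* P := Polynomial.eval₂RingHom inX.toRingHom (X 1)

theorem ofPoly_C (c : A) : ofPoly (Polynomial.C c) = inX c := Polynomial.eval₂_C _ _

theorem ofPoly_X : ofPoly (Polynomial.X : Polynomial A) = X 1 := Polynomial.eval₂_X _ _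

theorem constantCoeff_ofPoly (g : Polynomial A) :
    constantCoeff (ofPoly g) = PowerSeries.constantCoeff (g.coeff 0) := by
  conv_lhs => rw [← Polynomial.X_mul_divX_add g]
  rw [map_add, map_mul, ofPoly_C, ofPoly_X, map_add, map_mul, constantCoeff_X, zero_mul, zero_add,
    constantCoeff_inX]

/-- Completing the square when `y^2` has a non-zero coefficient. -/
theorem equiv_of_sq [IsAlgClosed k] (h2 : (2 : k) ≠ 0) (G : Polynomial A)
    (hc1 : PowerSeries.constantCoeff (G.coeff 1) = 0) (hc2 : PowerSeries.constantCoeff (G.coeff 2) ≠ 0)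
    (hG : constantCoeff (ofPoly G) = 0) :
    (∃ n : ℕ, Nonempty ((P ⧸ Ideal.span {ofPoly G}) ≃ₐ[k] ArSing.ring k n)) ∨
      Nonempty ((P ⧸ Ideal.span {ofPoly G}) ≃ₐ[k] (P ⧸ Ideal.span ({X 1 ^ 2} : Set P))) := by
  obtain ⟨a, ha0, ha⟩ := exists_root G.derivative
    (by rw [Polynomial.coeff_derivative]; simp [hc1])
    (by
      rw [Polynomial.coeff_derivative, PowerSeries.isUnit_iff_constantCoeff, map_mul, map_add,
        map_natCast, map_one]
      refine isUnit_iff_ne_zero.2 (mul_ne_zero hc2 ?_)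
      simpa [one_add_one_eq_two] using h2)
  -- the expansion around `a`
  let H := G.comp (Polynomial.X + Polynomial.C a)
  have hH1 : H.coeff 1 = 0 := by
    have h := Polynomial.taylor_coeff_one (r := a) G
    rw [Polynomial.taylor_apply] at h
    rw [h, ha]
  have hH2 : PowerSeries.constantCoeff (H.coeff 2) = PowerSeries.constantCoeff (G.coeff 2) := by
    have e : (H.map (PowerSeries.constantCoeff (R := k))) = G.map (PowerSeries.constantCoeff (R := k)) := by
      simp [H, Polynomial.map_comp, ha0]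
    have := congrArg (fun p => Polynomial.coeff p 2) e
    simpa [Polynomial.coeff_map] using this
  let p := H.coeff 0
  let R := H.divX.divX
  have hHR : H = Polynomial.X ^ 2 * R + Polynomial.C p := by
    have h1 := Polynomial.X_mul_divX_add H.divX
    rw [Polynomial.coeff_divX, hH1, map_zero, add_zero] at h1
    conv_lhs => rw [← Polynomial.X_mul_divX_add H, ← h1]
    ring
  let Y : P := X 1 - inX a
  let R' : P := ofPoly (R.comp (Polynomial.X - Polynomial.C a))
  have hY : ofPoly (Polynomial.X - Polynomial.C a) = Y := by rw [map_sub, ofPoly_X, ofPoly_C]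
  have hF : ofPoly G = Y ^ 2 * R' + inX p := by
    have hG' : G = H.comp (Polynomial.X - Polynomial.C a) := by
      simp [H, Polynomial.comp_assoc]
    conv_lhs => rw [hG', hHR]
    rw [Polynomial.add_comp, Polynomial.mul_comp, Polynomial.X_pow_comp, Polynomial.C_comp, map_add, map_mul,
      map_pow, hY, ofPoly_C]
  have hR' : constantCoeff R' ≠ 0 := by
    have e : (R.comp (Polynomial.X - Polynomial.C a)).map (PowerSeries.constantCoeff (R := k)) =
        R.map (PowerSeries.constantCoeff (R := k)) := by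
      simp [Polynomial.map_comp, ha0]
    have := congrArg (fun p => Polynomial.coeff p 0) e
    simp only [Polynomial.coeff_map] at this
    rw [constantCoeff_ofPoly, this, Polynomial.coeff_divX, Polynomial.coeff_divX, hH2]
    exact hc2
  obtain ⟨s, hs, hs0⟩ := exists_sqrt_P h2 R' hR'
  have hY0 : constantCoeff Y = 0 := by simp [Y, constantCoeff_inX, ha0]
  have hYl : lin 1 Y = 1 := by simp [Y, lin_sub, lin_X, lin_one_inX]
  by_cases hp : p = 0
  · obtain ⟨φ, hφ⟩ := exists_aut ![X 0, s * Y] (span_eq_max _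
      (fun l => by fin_cases l <;> simp [hY0]) (by simp [lin_X, lin_mul, hY0, hYl, hs0]))
    refine Or.inr (nonempty_equiv_of_aut φ isUnit_one ?_)
    rw [hF, hp, map_zero, add_zero, one_mul, map_pow, hφ 1, ← hs]
    simp
    ring
  · have hp0 : PowerSeries.constantCoeff p = 0 := by
      have := hG
      rwa [hF, map_add, map_mul, map_pow, hY0, zero_pow two_ne_zero, zero_mul, zero_add,
        constantCoeff_inX] at this
    obtain ⟨m, w, hw, hpw⟩ : ∃ (m : ℕ) (w : A), PowerSeries.constantCoeff w ≠ 0 ∧ p = PowerSeries.X ^ m * w :=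
      ⟨p.order.toNat, p.divXPowOrder, PowerSeries.constantCoeff_divXPowOrder_eq_zero_iff.not.2 hp,
        (PowerSeries.X_pow_order_mul_divXPowOrder).symm⟩
    obtain ⟨n, rfl⟩ : ∃ n, m = n + 1 := ⟨m - 1, by
      rcases Nat.eq_zero_or_pos m with rfl | h
      · rw [hpw, pow_zero, one_mul] at hp0; exact absurd hp0 hw
      · omega⟩
    obtain ⟨t, ht, ht0⟩ := exists_sqrt h2 (-w) (by simpa using hw)
    have htu : IsUnit (inX t) := isUnit_iff_constantCoeff.2 (by
      rw [constantCoeff_inX]; exact isUnit_iff_ne_zero.2 ht0)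
    obtain ⟨τ, hτ⟩ := htu.exists_left_inv
    have hτ0 : constantCoeff τ ≠ 0 := fun h => by
      have := congrArg constantCoeff hτ
      rw [map_mul, h, zero_mul, map_one] at this
      exact zero_ne_one this
    obtain ⟨φ, hφ⟩ := exists_aut ![X 0, τ * s * Y] (span_eq_max _
      (fun l => by fin_cases l <;> simp [hY0]) (by simp [lin_X, lin_mul, hY0, hYl, hs0, hτ0]))
    refine Or.inl ⟨n, nonempty_equiv_of_aut φ (htu.pow 2) ?_⟩
    rw [hF, ArSing.eqn, map_sub, map_pow, map_pow, hφ 1, hφ 0, hpw, map_mul, map_pow, inX_X, ← hs,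
      show w = -(t * t) by rw [ht, neg_neg], map_neg, map_mul]
    simp only [Matrix.cons_val_one, Matrix.cons_val_zero]
    have e : inX t ^ 2 * ((τ * s * Y) ^ 2 - X 0 ^ (n + 1)) =
        (τ * inX t) ^ 2 * (s * Y) ^ 2 - inX t ^ 2 * X 0 ^ (n + 1) := by ring
    rw [e, hτ]
    ring

/-- The quotient by a germ with non-zero linear part is `A_0`. -/
theorem equiv_A_zero {F : P} (h0 : constantCoeff F = 0) {i : Fin 2} (hi : lin i F ≠ 0) :
    Nonempty ((P ⧸ Ideal.span {F}) ≃ₐ[k] ArSing.ring k 0) := by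
  classical
  obtain ⟨φ, hφ⟩ := equiv_X_of_lin h0 hi
  obtain ⟨ψ, hψ⟩ := equiv_X_of_lin (k := k) (F := ArSing.eqn k 0) (by simp [ArSing.eqn]) (i := 0)
    (by simp [ArSing.eqn, lin_sub, lin_X, pow_two, lin_mul])
  obtain ⟨e1⟩ := nonempty_equiv_of_aut φ isUnit_one (F := F) (G := X 1) (by rw [one_mul, hφ])
  obtain ⟨e2⟩ := nonempty_equiv_of_aut ψ isUnit_one (F := ArSing.eqn k 0) (G := X 1) (by rw [one_mul, hψ])
  exact ⟨e1.trans e2.symm⟩

/-- A linear change of variables. -/
theorem exists_subst (L : Fin 2 → MvPolynomial (Fin 2) k)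
    (h0 : ∀ i, constantCoeff (L i : P) = 0)
    (hdet : lin 0 (L 0 : P) * lin 1 (L 1 : P) - lin 1 (L 0 : P) * lin 0 (L 1 : P) ≠ 0) :
    ∃ φ : P ≃ₐ[k] P, ∀ f : MvPolynomial (Fin 2) k, φ (f : P) = (MvPolynomial.aeval L f : MvPolynomial (Fin 2) k) := by
  obtain ⟨φ, hφ⟩ := exists_aut (fun i => (L i : P)) (span_eq_max _ h0 hdet)
  refine ⟨φ, fun f => ?_⟩
  have : φ.toAlgHom.comp (MvPolynomial.coeToMvPowerSeries.algHom k) =
      (MvPolynomial.coeToMvPowerSeries.algHom k).comp (MvPolynomial.aeval L) :=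
    MvPolynomial.algHom_ext fun i => by simp [hφ i]
  simpa using DFunLike.congr_fun this f

theorem coeff_two_ofPoly (G : Polynomial A) :
    coeff (Finsupp.single 1 1) (ofPoly G) = PowerSeries.constantCoeff (G.coeff 1) ∧
      coeff (Finsupp.single 1 2) (ofPoly G) = PowerSeries.constantCoeff (G.coeff 2) := by
  have key : ∀ (G : Polynomial A) (b : ℕ),
      cf (ofPoly G) 0 b = PowerSeries.constantCoeff (G.coeff b) := by
    intro G
    induction G using Polynomial.induction_on' with
    | add p q hp hq => intro b; rw [map_add, cf_add, Polynomial.coeff_add, map_add, hp, hq]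
    | monomial d c =>
      intro b
      rw [← Polynomial.C_mul_X_pow_eq_monomial, map_mul, map_pow, ofPoly_C, ofPoly_X, mul_comm, cf_X1_pow_mul,
        Polynomial.coeff_C_mul_X_pow]
      by_cases hdb : d ≤ b
      · rw [if_pos hdb, cf_inX]
        by_cases hb : b = d
        · subst hb; simp
        · rw [if_neg hb, if_neg (by omega), map_zero]
      · rw [if_neg hdb, if_neg (by omega), map_zero]
  have e : ∀ b, ex 0 b = (Finsupp.single 1 b : Fin 2 →₀ ℕ) := fun b => by simp [ex]
  exact ⟨by rw [← key, cf, e], by rw [← key, cf, e]⟩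

/-- A polynomial germ of order at most two is of type `A_n` or a double line. -/
theorem exists_type [IsAlgClosed k] (h2 : (2 : k) ≠ 0) (f : MvPolynomial (Fin 2) k)
    (h0 : constantCoeff (f : P) = 0) (h3 : ¬ OrdGE 3 (f : P)) :
    (∃ n : ℕ, Nonempty ((P ⧸ Ideal.span {(f : P)}) ≃ₐ[k] ArSing.ring k n)) ∨
      Nonempty ((P ⧸ Ideal.span {(f : P)}) ≃ₐ[k] (P ⧸ Ideal.span ({X 1 ^ 2} : Set P))) := by
  classical
  by_cases hl : ∃ i, lin i (f : P) ≠ 0
  · obtain ⟨i, hi⟩ := hl
    exact Or.inl ⟨0, equiv_A_zero h0 hi⟩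
  push Not at hl
  obtain ⟨L, hL0, hLd, hLc⟩ : ∃ L : Fin 2 → MvPolynomial (Fin 2) k, (∀ i, constantCoeff (L i : P) = 0) ∧
      lin 0 (L 0 : P) * lin 1 (L 1 : P) - lin 1 (L 0 : P) * lin 0 (L 1 : P) ≠ 0 ∧
      coeff (Finsupp.single 1 2) ((MvPolynomial.aeval L f : MvPolynomial (Fin 2) k) : P) ≠ 0 := by
    -- the quadratic part
    let c20 := coeff (Finsupp.single 0 2) (f : P)
    let c11 := coeff (Finsupp.single 0 1 + Finsupp.single 1 1) (f : P)
    let c02 := coeff (Finsupp.single 1 2) (f : P)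
    have hq : ∀ α β : k, coeff (Finsupp.single 1 2)
        ((MvPolynomial.aeval ![MvPolynomial.C α * MvPolynomial.X 0 + MvPolynomial.C β * MvPolynomial.X 1,
          MvPolynomial.X 1] f : MvPolynomial (Fin 2) k) : P) = c20 * β ^ 2 + c11 * β + c02 := by
      intro α β
      let Q : MvPolynomial (Fin 2) k := MvPolynomial.C c20 * MvPolynomial.X 0 ^ 2 +
        MvPolynomial.C c11 * (MvPolynomial.X 0 * MvPolynomial.X 1) + MvPolynomial.C c02 * MvPolynomial.X 1 ^ 2
      have hrest : OrdGE 3 (((f - Q : MvPolynomial (Fin 2) k)) : P) := by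
        intro e he
        have hs : e 0 + e 1 ≤ 2 := by
          rw [Finsupp.degree_eq_sum, Fin.sum_univ_two] at he; omega
        have hee : e = ex (e 0) (e 1) := (ex_self e).symm
        have hlin : ∀ i, MvPolynomial.coeff (Finsupp.single i 1) f = 0 := fun i => by
          rw [← MvPolynomial.coeff_coe]; exact hl i
        have hf0 : MvPolynomial.coeff 0 f = 0 := by
          rw [← MvPolynomial.coeff_coe]; exact h0
        rw [MvPolynomial.coeff_coe, hee]
        obtain ⟨a, b, hab, ha, hb⟩ : ∃ a b, a + b ≤ 2 ∧ e 0 = a ∧ e 1 = b := ⟨_, _, hs, rfl, rfl⟩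
        rw [ha, hb]
        simp only [Q, MvPolynomial.coeff_sub, MvPolynomial.coeff_add, MvPolynomial.coeff_C_mul,
          MvPolynomial.coeff_X_pow, MvPolynomial.coeff_X_mul', MvPolynomial.coeff_X']
        have h11 : MvPolynomial.coeff (ex 1 1) f = c11 := by simp [c11, ex, MvPolynomial.coeff_coe]
        have h20 : MvPolynomial.coeff (ex 2 0) f = c20 := by simp [c20, ex, MvPolynomial.coeff_coe]
        have h02 : MvPolynomial.coeff (ex 0 2) f = c02 := by simp [c02, ex, MvPolynomial.coeff_coe]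
        have h10 : MvPolynomial.coeff (ex 1 0) f = 0 := by simpa [ex] using hlin 0
        have h01 : MvPolynomial.coeff (ex 0 1) f = 0 := by simpa [ex] using hlin 1
        have h00 : MvPolynomial.coeff (ex 0 0) f = 0 := by simpa [ex] using hf0
        rcases (show (a = 0 ∧ b = 0) ∨ (a = 1 ∧ b = 0) ∨ (a = 0 ∧ b = 1) ∨ (a = 2 ∧ b = 0) ∨
          (a = 1 ∧ b = 1) ∨ (a = 0 ∧ b = 2) by omega) with
          ⟨rfl, rfl⟩ | ⟨rfl, rfl⟩ | ⟨rfl, rfl⟩ | ⟨rfl, rfl⟩ | ⟨rfl, rfl⟩ | ⟨rfl, rfl⟩ <;>
          simp [h00, h10, h01, h20, h11, h02] <;>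
          simp [ex, Finsupp.ext_iff, Fin.forall_fin_two, Finsupp.single_apply]
      let L : Fin 2 → MvPolynomial (Fin 2) k :=
        ![MvPolynomial.C α * MvPolynomial.X 0 + MvPolynomial.C β * MvPolynomial.X 1, MvPolynomial.X 1]
      let Λ : MvPolynomial (Fin 2) k →ₐ[k] P :=
        (MvPolynomial.coeToMvPowerSeries.algHom k).comp (MvPolynomial.aeval L)
      have hΛX : ∀ i, OrdGE 1 (Λ (MvPolynomial.X i)) := by
        intro i e he
        obtain rfl : e = 0 := (Finsupp.degree_eq_zero_iff e).1 (by omega)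
        fin_cases i <;> simp [Λ, L]
      have hΛ : ∀ q : MvPolynomial (Fin 2) k, OrdGE 3 (q : P) → OrdGE 3 (Λ q) := by
        intro q hq
        rw [q.as_sum, map_sum]
        refine OrdGE.sum fun e he => ?_
        have hdeg : 3 ≤ e.degree := by
          by_contra hlt
          exact MvPolynomial.mem_support_iff.1 he (by rw [← MvPolynomial.coeff_coe]; exact hq e (by omega))
        rw [MvPolynomial.monomial_eq, map_mul, Finsupp.prod_fintype _ _ (fun i => by simp), map_prod,
          Fin.prod_univ_two, map_pow, map_pow]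
        rw [Finsupp.degree_eq_sum, Fin.sum_univ_two] at hdeg
        have hpw : ∀ i n, OrdGE n (Λ (MvPolynomial.X i) ^ n) := fun i n => by
          rw [← mem_pow_iff]
          refine Ideal.pow_mem_pow ?_ n
          rw [← pow_one (maximalIdeal P), mem_pow_iff]
          exact hΛX i
        exact (((hpw 0 (e 0)).mul (hpw 1 (e 1))).mono hdeg).mul_left _
      have hz := hΛ _ hrest (Finsupp.single 1 2) (by simp)
      rw [map_sub, map_sub, sub_eq_zero] at hz
      refine hz.trans ?_
      have eQ : Λ Q = C (c20 * α ^ 2) * X 0 ^ 2 + C (2 * c20 * α * β + c11 * α) * (X 0 * X 1) +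
          C (c20 * β ^ 2 + c11 * β + c02) * X 1 ^ 2 := by
        simp [Λ, L, Q, map_ofNat]
        ring
      rw [eQ]
      rw [map_add, map_add, coeff_C_mul, coeff_C_mul, coeff_C_mul, coeff_X_pow, coeff_X_pow]
      have e11 : coeff (Finsupp.single 1 2) (X 0 * X 1 : P) = 0 := by
        rw [X, X, monomial_mul_monomial, coeff_monomial, if_neg]
        simp [Finsupp.ext_iff, Fin.forall_fin_two]
      rw [e11, if_neg (by simp [Finsupp.ext_iff, Fin.forall_fin_two]), if_pos rfl]
      ring
    have hne : c20 ≠ 0 ∨ c11 ≠ 0 ∨ c02 ≠ 0 := by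
      by_contra hc
      push Not at hc
      refine h3 fun e he => ?_
      have hs : e 0 + e 1 ≤ 2 := by
        rw [Finsupp.degree_eq_sum, Fin.sum_univ_two] at he; omega
      rw [← ex_self e]
      rcases (show (e 0 = 0 ∧ e 1 = 0) ∨ (e 0 = 1 ∧ e 1 = 0) ∨ (e 0 = 0 ∧ e 1 = 1) ∨ (e 0 = 2 ∧ e 1 = 0) ∨
        (e 0 = 1 ∧ e 1 = 1) ∨ (e 0 = 0 ∧ e 1 = 2) by omega) with
        ⟨ha, hb⟩ | ⟨ha, hb⟩ | ⟨ha, hb⟩ | ⟨ha, hb⟩ | ⟨ha, hb⟩ | ⟨ha, hb⟩ <;> rw [ha, hb]
      · simp only [ex, Finsupp.single_zero, add_zero]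
        exact (coeff_zero_eq_constantCoeff_apply _).trans h0
      · simpa [ex, lin] using hl 0
      · simpa [ex, lin] using hl 1
      · simpa [ex, c20] using hc.1
      · simpa [ex, c11] using hc.2.1
      · simpa [ex, c02] using hc.2.2
    obtain ⟨α, β, hα, hβ⟩ : ∃ α β : k, α ≠ 0 ∧ c20 * β ^ 2 + c11 * β + c02 ≠ 0 := by
      by_cases hc : c02 = 0
      · rcases eq_or_ne (c20 + c11) 0 with h | h
        · refine ⟨1, -1, one_ne_zero, ?_⟩
          have : c11 = -c20 := by linear_combination h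
          have hc20 : c20 ≠ 0 := fun hz => by simp [hz, this, hc] at hne
          rw [hc, this]
          have e : c20 * (-1) ^ 2 + -c20 * -1 + 0 = 2 * c20 := by ring
          rw [e]
          exact mul_ne_zero h2 hc20
        · exact ⟨1, 1, one_ne_zero, by simpa [hc] using h⟩
      · exact ⟨1, 0, one_ne_zero, by simpa using hc⟩
    refine ⟨![MvPolynomial.C α * MvPolynomial.X 0 + MvPolynomial.C β * MvPolynomial.X 1, MvPolynomial.X 1],
      fun i => by fin_cases i <;> simp, ?_, by rw [hq]; exact hβ⟩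
    simp [lin_add, lin_C_mul, lin_X, hα]
  obtain ⟨φ, hφ⟩ := exists_subst L hL0 hLd
  set f' := MvPolynomial.aeval L f with hf'
  obtain ⟨e⟩ := nonempty_equiv_of_aut φ isUnit_one (F := (f' : P)) (G := (f : P)) (by rw [one_mul, hφ])
  -- as a polynomial over `k[[x]]`
  let G : Polynomial A := MvPolynomial.aeval (![Polynomial.C PowerSeries.X, Polynomial.X] : Fin 2 → Polynomial A) f'
  have hcompat : (ofPoly (k := k)).comp (algebraMap k (Polynomial A)) = algebraMap k P := RingHom.ext fun c => by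
    show ofPoly (Polynomial.C (algebraMap k A c)) = _
    rw [ofPoly_C]
    exact inX.commutes c
  let Θ : Polynomial A →ₐ[k] P := { ofPoly with commutes' := fun c => RingHom.congr_fun hcompat c }
  have hG : ofPoly G = (f' : P) := by
    have : Θ.comp (MvPolynomial.aeval (![Polynomial.C PowerSeries.X, Polynomial.X] : Fin 2 → Polynomial A)) =
        MvPolynomial.coeToMvPowerSeries.algHom k := MvPolynomial.algHom_ext fun i => by
      fin_cases i
      · simp [Θ, ofPoly_C, inX_X]
      · simp [Θ, ofPoly_X]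
    exact DFunLike.congr_fun this f'
  have hord : OrdGE 2 (f' : P) := by
    rw [← hφ, ← mem_pow_iff]
    have h1 : φ (f : P) ∈ (maximalIdeal P ^ 2).map φ.toRingEquiv.toRingHom :=
      Ideal.mem_map_of_mem _ (mem_pow_iff.2 (ordGE_two_iff.2 ⟨h0, hl⟩))
    haveI : IsLocalHom φ.toRingEquiv.toRingHom := IsLocalHom.of_surjective _ φ.surjective
    rwa [Ideal.map_pow, map_maximalIdeal_of_surjective φ.toRingEquiv.toRingHom φ.surjective] at h1
  obtain ⟨k1, k2⟩ := coeff_two_ofPoly G
  rcases equiv_of_sq h2 G (by rw [← k1, hG]; exact hord _ (by simp)) (by rw [← k2, hG]; exact hLc)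
    (by rw [hG]; exact (ordGE_two_iff.1 hord).1) with ⟨n, he'⟩ | he'
  · obtain ⟨e'⟩ := he'
    exact Or.inl ⟨n, ⟨e.symm.trans ((Ideal.quotientEquivAlgOfEq k
      (show Ideal.span {(f' : P)} = Ideal.span {ofPoly G} by rw [hG])).trans e')⟩⟩
  · obtain ⟨e'⟩ := he'
    exact Or.inr ⟨e.symm.trans ((Ideal.quotientEquivAlgOfEq k
      (show Ideal.span {(f' : P)} = Ideal.span {ofPoly G} by rw [hG])).trans e')⟩

end GrothLib.PlaneGerm
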