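import Groth.Agent.Lib.Morse.OrdGE
import Groth.Agent.Lib.RegLoc.PowerSeries
import Groth.Agent.Ar2.Hom
import Mathlib.RingTheory.Filtration

/-!
# Germs of plane curves: coordinates and isomorphisms of `k[[x,y]]/(F)`
-/

set_option autoImplicit false
set_option linter.style.haveILetI false
universe u

open IsLocalRing MvPowerSeries GrothLib.Morse

namespace GrothLib.PlaneGerm

variable {k : Type u} [Field k]

local notation "P" => MvPowerSeries (Fin 2) k

/-- The coefficient of `X_i`. -/
noncomputable def lin (i : Fin 2) (F : MvPowerSeries (Fin 2) k) : k := coeff (Finsupp.single i 1) F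

theorem mem_pow_iff {n : ℕ} {F : P} : F ∈ maximalIdeal P ^ n ↔ OrdGE n F := by
  constructor
  · revert F
    induction n with
    | zero => exact fun _ => ordGE_zero _
    | succ n ih =>
      intro F hF
      rw [pow_succ] at hF
      refine Submodule.mul_induction_on hF (fun a ha b hb => ?_) fun a b ha hb => ha.add hb
      refine (ih ha).mul (fun e he => ?_)
      obtain rfl : e = 0 := (Finsupp.degree_eq_zero_iff e).1 (by omega)
      exact (RegLoc.PS.mem_max k).1 hb
  · intro hF
    rw [← RegLoc.PS.span_X k]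
    refine RegLoc.PS.mem_span_X_pow k ?_
    ext e
    rw [MvPolynomial.coeff_zero]
    rcases lt_or_ge e.degree n with h | h
    · rw [coeff_truncTotal _ h, hF e h]
    · exact coeff_truncTotal_eq_zero _ h

theorem ordGE_two_iff {F : P} :
    OrdGE 2 F ↔ constantCoeff F = 0 ∧ ∀ i, lin i F = 0 := by
  constructor
  · exact fun h => ⟨h 0 (by simp), fun i => h _ (by simp)⟩
  · rintro ⟨h0, h1⟩ e he
    rcases Nat.eq_zero_or_pos e.degree with hd | hd
    · obtain rfl := (Finsupp.degree_eq_zero_iff e).1 hd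
      exact h0
    · have hs : e 0 + e 1 = 1 := by
        rw [Finsupp.degree_eq_sum, Fin.sum_univ_two] at he hd
        omega
      rcases Nat.eq_zero_or_pos (e 0) with h | h
      · obtain rfl : e = Finsupp.single 1 1 := by
          ext i; fin_cases i <;> simp <;> omega
        exact h1 1
      · obtain rfl : e = Finsupp.single 0 1 := by
          ext i; fin_cases i <;> simp <;> omega
        exact h1 0

theorem lin_add (i : Fin 2) (F G : P) : lin i (F + G) = lin i F + lin i G := map_add _ _ _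

theorem lin_sub (i : Fin 2) (F G : P) : lin i (F - G) = lin i F - lin i G := map_sub _ _ _

theorem lin_X (i j : Fin 2) : lin i (X j : P) = if i = j then 1 else 0 := by
  classical
  rw [lin, coeff_X]
  exact if_congr (Finsupp.single_left_inj one_ne_zero) rfl rfl

theorem lin_mul (i : Fin 2) (F G : P) :
    lin i (F * G) = constantCoeff F * lin i G + lin i F * constantCoeff G := by
  classical
  rw [lin, coeff_mul, Finsupp.antidiagonal_single, Finset.Nat.antidiagonal_succ, Finset.map_cons,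
    Finset.sum_cons]
  simp [lin]

theorem lin_C_mul (i : Fin 2) (c : k) (F : P) : lin i (C c * F) = c * lin i F :=
  coeff_C_mul _ _ _

/-- Two series with independent linear parts generate the maximal ideal. -/
theorem span_eq_max (b : Fin 2 → P) (hb : ∀ i, constantCoeff (b i) = 0)
    (hdet : lin 0 (b 0) * lin 1 (b 1) - lin 1 (b 0) * lin 0 (b 1) ≠ 0) :
    Ideal.span (Set.range b) = maximalIdeal P := by
  have hle : Ideal.span (Set.range b) ≤ maximalIdeal P := by
    rw [Ideal.span_le]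
    rintro _ ⟨i, rfl⟩
    exact (RegLoc.PS.mem_max k).2 (hb i)
  refine le_antisymm hle (Submodule.le_of_le_smul_of_le_jacobson_bot (I := maximalIdeal P)
    (IsNoetherian.noetherian _) (IsLocalRing.maximalIdeal_le_jacobson ⊥) ?_)
  conv_lhs => rw [← RegLoc.PS.span_X k]
  rw [Ideal.span_le]
  rintro _ ⟨j, rfl⟩
  obtain ⟨c₀, c₁, hc₀, hc₁⟩ : ∃ c₀ c₁ : k,
      c₀ * lin 0 (b 0) + c₁ * lin 0 (b 1) = (if (0 : Fin 2) = j then 1 else 0) ∧
      c₀ * lin 1 (b 0) + c₁ * lin 1 (b 1) = (if (1 : Fin 2) = j then 1 else 0) := by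
    generalize hD : lin 0 (b 0) * lin 1 (b 1) - lin 1 (b 0) * lin 0 (b 1) = D at hdet
    generalize (if (0 : Fin 2) = j then (1 : k) else 0) = r₀
    generalize (if (1 : Fin 2) = j then (1 : k) else 0) = r₁
    refine ⟨(r₀ * lin 1 (b 1) - r₁ * lin 0 (b 1)) / D, (r₁ * lin 0 (b 0) - r₀ * lin 1 (b 0)) / D, ?_, ?_⟩
    · rw [div_mul_eq_mul_div, div_mul_eq_mul_div, ← add_div, div_eq_iff hdet, ← hD]; ring
    · rw [div_mul_eq_mul_div, div_mul_eq_mul_div, ← add_div, div_eq_iff hdet, ← hD]; ring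
  let t : P := C c₀ * b 0 + C c₁ * b 1
  have ht : X j - t ∈ maximalIdeal P ^ 2 := by
    rw [mem_pow_iff, ordGE_two_iff]
    refine ⟨by simp [t, hb], Fin.forall_fin_two.2 ⟨?_, ?_⟩⟩ <;>
      rw [lin_sub, lin_add, lin_C_mul, lin_C_mul, lin_X]
    · rw [hc₀, sub_self]
    · rw [hc₁, sub_self]
  rw [show (X j : P) = t + (X j - t) by ring]
  refine Submodule.add_mem_sup ?_ ?_
  · exact add_mem (Ideal.mul_mem_left _ _ (Ideal.subset_span ⟨0, rfl⟩))
      (Ideal.mul_mem_left _ _ (Ideal.subset_span ⟨1, rfl⟩))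
  · rwa [smul_eq_mul, ← pow_two]

/-- Coordinate changes. -/
theorem exists_aut (b : Fin 2 → P) (hsp : Ideal.span (Set.range b) = maximalIdeal P) :
    ∃ φ : P ≃ₐ[k] P, ∀ i, φ (X i) = b i := by
  obtain ⟨ψ, hψ⟩ := RegLoc.PS.exists_algHom (A := k) (maximalIdeal P) b
    fun i => hsp ▸ Ideal.subset_span ⟨i, rfl⟩
  have hres : Function.Surjective ((residue P).comp (algebraMap k P)) := by
    intro z
    obtain ⟨F, rfl⟩ := residue_surjective z
    refine ⟨constantCoeff F, (Ideal.Quotient.mk_eq_mk_iff_sub_mem _ _).2 ?_⟩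
    rw [RegLoc.PS.mem_max k]
    simp [MvPowerSeries.algebraMap_apply]
  have hs : Function.Surjective ψ := RegLoc.PS.surjective hres ψ (by
    rw [show (fun i => ψ (X i)) = b from funext hψ]; exact hsp)
  exact ⟨AlgEquiv.ofBijective ψ ⟨Groth.Agent.Ar2.endo_injective_of_surjective ψ.toRingHom hs, hs⟩, hψ⟩

/-- An automorphism taking `G` to `F` up to a unit identifies the quotients. -/
theorem nonempty_equiv_of_aut (φ : P ≃ₐ[k] P) {F G u : P} (hu : IsUnit u) (h : F = u * φ G) :
    Nonempty ((P ⧸ Ideal.span {F}) ≃ₐ[k] (P ⧸ Ideal.span {G})) :=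
  ⟨(Ideal.quotientEquivAlg (Ideal.span {G}) (Ideal.span {F}) φ (by
    rw [Ideal.map_span, Set.image_singleton, h, Ideal.span_singleton_mul_left_unit hu]; rfl)).symm⟩

/-- The order is an invariant of the quotient. -/
theorem mem_pow_of_equiv {F G : P} (e : (P ⧸ Ideal.span {F}) ≃ₐ[k] (P ⧸ Ideal.span {G})) {j : ℕ}
    (hF : F ∈ maximalIdeal P ^ j) : G ∈ maximalIdeal P ^ j := by
  rcases Nat.eq_zero_or_pos j with rfl | hj
  · simp
  let qF : (P ⧸ Ideal.span {F}) →+* (P ⧸ maximalIdeal P ^ j) :=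
    Ideal.Quotient.factor (by rwa [Ideal.span_singleton_le_iff_mem])
  let σ : P →+* P ⧸ maximalIdeal P ^ j :=
    (qF.comp e.symm.toRingEquiv.toRingHom).comp (Ideal.Quotient.mk (Ideal.span {G}))
  have hσ : Function.Surjective σ := ((Ideal.Quotient.factor_surjective ((Ideal.span_singleton_le_iff_mem _).2 hF)).comp e.symm.surjective).comp
    Ideal.Quotient.mk_surjective
  haveI : Nontrivial (P ⧸ maximalIdeal P ^ j) := Ideal.Quotient.nontrivial_iff.2
    (ne_top_of_le_ne_top (maximalIdeal.isMaximal P).ne_top (Ideal.pow_le_self (by omega)))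
  haveI : IsLocalRing (P ⧸ maximalIdeal P ^ j) :=
    IsLocalRing.of_surjective' (Ideal.Quotient.mk _) Ideal.Quotient.mk_surjective
  haveI : IsLocalHom σ := IsLocalHom.of_surjective σ hσ
  haveI : IsLocalHom (Ideal.Quotient.mk (maximalIdeal P ^ j)) :=
    IsLocalHom.of_surjective _ Ideal.Quotient.mk_surjective
  have hker : maximalIdeal P ^ j ≤ RingHom.ker σ := fun x hx => by
    have h1 : σ x ∈ maximalIdeal (P ⧸ maximalIdeal P ^ j) ^ j := by
      rw [← map_maximalIdeal_of_surjective σ hσ, ← Ideal.map_pow]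
      exact Ideal.mem_map_of_mem _ hx
    rwa [← map_maximalIdeal_of_surjective (Ideal.Quotient.mk (maximalIdeal P ^ j)) Ideal.Quotient.mk_surjective,
      ← Ideal.map_pow, Ideal.map_quotient_self, Ideal.mem_bot] at h1
  have hinj := Groth.Agent.Ar2.endo_injective_of_surjective (Ideal.Quotient.lift _ σ hker)
    (Ideal.Quotient.lift_surjective_of_surjective _ _ hσ)
  refine Ideal.Quotient.eq_zero_iff_mem.1 (hinj ?_)
  refine ((Ideal.Quotient.lift_mk _ _ _).trans ?_).trans (map_zero _).symm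
  show qF (e.symm (Ideal.Quotient.mk _ G)) = 0
  rw [Ideal.Quotient.eq_zero_iff_mem.2 (Ideal.mem_span_singleton_self G), map_zero, map_zero]

/-- Maps to a Noetherian local algebra are determined by the images of the variables. -/
theorem algHom_ext {Q : Type u} [CommRing Q] [IsLocalRing Q] [IsNoetherianRing Q] [Algebra k Q]
    (f g : P →ₐ[k] Q) (h : ∀ i, f (X i) = g (X i)) (hm : ∀ i, f (X i) ∈ maximalIdeal Q) : f = g := by
  refine AlgHom.ext fun F => ?_
  rw [← sub_eq_zero, ← Submodule.mem_bot (R := Q),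
    ← Ideal.iInf_pow_eq_bot_of_isLocalRing (maximalIdeal Q) (maximalIdeal.isMaximal Q).ne_top, Submodule.mem_iInf]
  intro n
  let t : MvPolynomial (Fin 2) k := truncTotal n F
  have ht : F - (t : P) ∈ maximalIdeal P ^ n := by
    rw [mem_pow_iff]
    intro e he
    rw [map_sub, MvPolynomial.coeff_coe, coeff_truncTotal _ he, sub_self]
  have hX : ∀ (f' : P →ₐ[k] Q), (∀ i, f' (X i) ∈ maximalIdeal Q) →
      ∀ z ∈ maximalIdeal P ^ n, f' z ∈ maximalIdeal Q ^ n := fun f' hf z hz => by
    have h1 : (maximalIdeal P).map f'.toRingHom ≤ maximalIdeal Q := by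
      rw [← RegLoc.PS.span_X k, Ideal.map_span, Ideal.span_le]
      rintro _ ⟨_, ⟨i, rfl⟩, rfl⟩
      exact hf i
    exact Ideal.pow_right_mono h1 n (Ideal.map_pow f'.toRingHom _ n ▸ Ideal.mem_map_of_mem f'.toRingHom hz)
  have ht' : f (t : P) = g (t : P) := by
    have : f.comp (MvPolynomial.coeToMvPowerSeries.algHom k) = g.comp (MvPolynomial.coeToMvPowerSeries.algHom k) :=
      MvPolynomial.algHom_ext fun i => by simp [h i]
    simpa using DFunLike.congr_fun this t
  have := sub_mem (hX f hm _ ht) (hX g (fun i => h i ▸ hm i) _ ht)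
  rwa [map_sub, map_sub, ht', sub_sub_sub_cancel_right] at this

/-- A germ with a non-zero linear part is smooth. -/
theorem equiv_X_of_lin {F : P} (h0 : constantCoeff F = 0) {i : Fin 2} (hi : lin i F ≠ 0) :
    ∃ φ : P ≃ₐ[k] P, φ (X 1) = F := by
  let j : Fin 2 := if i = 0 then 1 else 0
  obtain ⟨φ, hφ⟩ := exists_aut ![X j, F] (span_eq_max _ (fun l => by fin_cases l <;> simp [h0]) (by
    fin_cases i <;> simp [j, lin_X] <;> simpa using hi))
  exact ⟨φ, hφ 1⟩

end GrothLib.PlaneGerm
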