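import Groth.Agent.Lib.PlaneGerm.Germ
import Mathlib.RingTheory.MvPowerSeries.Derivative
import Mathlib.Algebra.MvPolynomial.PDeriv

/-!
# Recentring a polynomial at a point
-/

set_option autoImplicit false
universe u

open MvPolynomial

namespace GrothLib.PlaneGerm

variable {k : Type u} [Field k]

/-- Recentring at `a`. -/
noncomputable def recentre (a : Fin 2 → k) : MvPolynomial (Fin 2) k ≃ₐ[k] MvPolynomial (Fin 2) k :=
  AlgEquiv.ofAlgHom (aeval fun i => X i + C (a i)) (aeval fun i => X i - C (a i))
    (MvPolynomial.algHom_ext fun i => by simp)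
    (MvPolynomial.algHom_ext fun i => by simp)

theorem recentre_eq (a : Fin 2 → k) (f : MvPolynomial (Fin 2) k) :
    recentre a f = aeval (fun i => X i + C (a i)) f := rfl

theorem constantCoeff_recentre (a : Fin 2 → k) (f : MvPolynomial (Fin 2) k) :
    constantCoeff (recentre a f) = eval a f := by
  rw [recentre_eq]
  induction f using MvPolynomial.induction_on with
  | C c => simp
  | add p q hp hq => simp only [map_add, hp, hq]
  | mul_X p i hp => simp only [map_mul, aeval_X, hp, eval_X, map_add, constantCoeff_X, constantCoeff_C, zero_add]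

theorem pderiv_recentre (a : Fin 2 → k) (i : Fin 2) (f : MvPolynomial (Fin 2) k) :
    pderiv i (recentre a f) = recentre a (pderiv i f) := by
  induction f using MvPolynomial.induction_on with
  | C c => simp [recentre_eq]
  | add p q hp hq => simp only [map_add, hp, hq]
  | mul_X p j hp =>
    rw [map_mul, Derivation.leibniz, hp, Derivation.leibniz, map_add, smul_eq_mul, smul_eq_mul,
      smul_eq_mul, smul_eq_mul, map_mul, map_mul]
    congr 2
    have hX : recentre a (X j) = X j + C (a j) := by rw [recentre_eq, aeval_X]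
    rw [hX, map_add, pderiv_C, add_zero]
    by_cases h : j = i
    · subst h; simp
    · rw [pderiv_X_of_ne h, map_zero]

/-- The germ of `f` at `a`. -/
noncomputable def germ (a : Fin 2 → k) (f : MvPolynomial (Fin 2) k) : MvPowerSeries (Fin 2) k :=
  (recentre a f).toMvPowerSeries

theorem germ_mul (a : Fin 2 → k) (f g : MvPolynomial (Fin 2) k) :
    germ a (f * g) = germ a f * germ a g := by
  rw [germ, germ, germ, map_mul, MvPolynomial.coe_mul]

theorem germ_pow (a : Fin 2 → k) (f : MvPolynomial (Fin 2) k) (n : ℕ) :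
    germ a (f ^ n) = germ a f ^ n := by
  rw [germ, germ, map_pow, MvPolynomial.coe_pow]

theorem constantCoeff_germ (a : Fin 2 → k) (f : MvPolynomial (Fin 2) k) :
    MvPowerSeries.constantCoeff (germ a f) = eval a f := by
  rw [← constantCoeff_recentre a f, ← MvPowerSeries.coeff_zero_eq_constantCoeff_apply, germ,
    MvPolynomial.coeff_coe, constantCoeff_eq]

theorem pderiv_germ (a : Fin 2 → k) (i : Fin 2) (f : MvPolynomial (Fin 2) k) :
    MvPowerSeries.pderiv k i (germ a f) = germ a (MvPolynomial.pderiv i f) := by
  rw [germ, MvPowerSeries.pderiv_coe, pderiv_recentre]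
  rfl

theorem lin_germ (a : Fin 2 → k) (i : Fin 2) (f : MvPolynomial (Fin 2) k) :
    lin i (germ a f) = eval a (MvPolynomial.pderiv i f) := by
  rw [← constantCoeff_germ, ← pderiv_germ, ← MvPowerSeries.coeff_zero_eq_constantCoeff_apply,
    MvPowerSeries.coeff_pderiv]
  simp [lin]

theorem eval_pderiv_pderiv (a : Fin 2 → k) (i j : Fin 2) (f : MvPolynomial (Fin 2) k) :
    eval a (MvPolynomial.pderiv i (MvPolynomial.pderiv j f)) =
      MvPowerSeries.coeff (Finsupp.single i 1 + Finsupp.single j 1) (germ a f) *
        ((Finsupp.single i 1 : Fin 2 →₀ ℕ) j + 1 : k) := by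
  rw [← lin_germ, ← pderiv_germ, lin, MvPowerSeries.coeff_pderiv]

end GrothLib.PlaneGerm
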