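import Groth.Agent.Lib.PlaneGerm.Poly
import Mathlib.RingTheory.MvPolynomial.Expand
import Mathlib.RingTheory.MvPowerSeries.NoZeroDivisors
import Mathlib.RingTheory.KrullDimension.Polynomial
import Mathlib.RingTheory.Polynomial.UniqueFactorization

/-!
# Double smooth branches of plane curves
-/

set_option autoImplicit false
set_option linter.style.haveILetI false
universe u

open IsLocalRing MvPowerSeries GrothLib.Morse

namespace GrothLib.PlaneGerm

variable {k : Type u} [Field k]

local notation "P" => MvPowerSeries (Fin 2) k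
local notation "Pol" => MvPolynomial (Fin 2) k

theorem prime_X (j : Fin 2) : Prime (X j : P) := by
  classical
  let w : Fin 2 → ℕ := fun i => if i = j then 1 else 0
  have hw : ∀ d : Fin 2 →₀ ℕ, Finsupp.weight w d = d j := fun d => by
    simp [Finsupp.weight_apply, Finsupp.sum_fintype, w]
  have hdvd : ∀ f : P, X j ∣ f ↔ weightedOrder w f ≠ 0 := fun f => by
    constructor
    · intro h
      have h1 : ((1 : ℕ) : ℕ∞) ≤ weightedOrder w f := nat_le_weightedOrder _ fun d hd =>
        X_dvd_iff.1 h d (by rw [hw] at hd; omega)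
      intro h0
      rw [h0] at h1
      simp at h1
    · intro h
      refine X_dvd_iff.2 fun d hd => coeff_eq_zero_of_lt_weightedOrder w ?_
      rw [hw, hd, Nat.cast_zero]
      exact pos_iff_ne_zero.2 h
  refine ⟨fun h => ?_, fun h => ?_, fun f g h => ?_⟩
  · have := congrArg (coeff (Finsupp.single j 1)) h
    simp at this
  · have := isUnit_iff_constantCoeff.1 h
    simp at this
  · rw [hdvd, weightedOrder_mul] at h
    rw [hdvd, hdvd]
    by_contra hc
    push Not at hc
    rw [hc.1, hc.2, add_zero] at h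
    exact h rfl

theorem aut_mem_pow (φ : P ≃ₐ[k] P) {n : ℕ} {F : P} (h : F ∈ maximalIdeal P ^ n) :
    φ F ∈ maximalIdeal P ^ n := by
  have h1 : φ F ∈ (maximalIdeal P ^ n).map φ.toRingEquiv.toRingHom :=
    Ideal.mem_map_of_mem φ.toRingEquiv.toRingHom h
  haveI : IsLocalHom φ.toRingEquiv.toRingHom := IsLocalHom.of_surjective _ φ.surjective
  rwa [Ideal.map_pow, map_maximalIdeal_of_surjective φ.toRingEquiv.toRingHom φ.surjective] at h1

/-- An isomorphism onto a double line gives a double smooth branch. -/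
theorem associated_sq_of_equiv {F : P}
    (e : (P ⧸ Ideal.span {F}) ≃ₐ[k] (P ⧸ Ideal.span ({X 1 ^ 2} : Set P))) :
    ∃ w : P, constantCoeff w = 0 ∧ (∃ i, lin i w ≠ 0) ∧ Prime w ∧ Associated F (w ^ 2) := by
  classical
  have hX : ∀ i, (X i : P) ∈ maximalIdeal P := fun i => by
    rw [RegLoc.PS.mem_max k]; exact constantCoeff_X i
  have hF : F ∈ maximalIdeal P ^ 2 := mem_pow_of_equiv e.symm (Ideal.pow_mem_pow (hX 1) 2)
  haveI : Nontrivial (P ⧸ Ideal.span {F}) := Ideal.Quotient.nontrivial_iff.2
    (ne_top_of_le_ne_top (maximalIdeal.isMaximal P).ne_top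
      ((Ideal.span_singleton_le_iff_mem _).2 (Ideal.pow_le_self two_ne_zero hF)))
  haveI : IsLocalRing (P ⧸ Ideal.span {F}) :=
    IsLocalRing.of_surjective' (Ideal.Quotient.mk _) Ideal.Quotient.mk_surjective
  let mkF := Ideal.Quotient.mkₐ k (Ideal.span {F})
  let ψ : P →ₐ[k] P ⧸ Ideal.span {F} :=
    e.symm.toAlgHom.comp (Ideal.Quotient.mkₐ k (Ideal.span ({X 1 ^ 2} : Set P)))
  have hmk : Function.Surjective mkF := Ideal.Quotient.mkₐ_surjective k _
  have hψ : Function.Surjective ψ := e.symm.surjective.comp (Ideal.Quotient.mkₐ_surjective k _)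
  choose b hb using fun i => hmk (ψ (X i))
  haveI : IsLocalHom ψ.toRingHom := IsLocalHom.of_surjective _ hψ
  haveI : IsLocalHom mkF.toRingHom := IsLocalHom.of_surjective _ hmk
  have hspan : Ideal.span (Set.range b) = maximalIdeal P := by
    have h1 : (maximalIdeal P).map mkF.toRingHom = (Ideal.span (Set.range b)).map mkF.toRingHom := by
      rw [map_maximalIdeal_of_surjective _ hmk, ← map_maximalIdeal_of_surjective ψ.toRingHom hψ,
        ← RegLoc.PS.span_X k, Ideal.map_span, Ideal.map_span, ← Set.range_comp, ← Set.range_comp]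
      exact congrArg _ (congrArg Set.range (funext fun i => (hb i).symm))
    refine le_antisymm (Ideal.span_le.2 ?_) ?_
    · rintro _ ⟨i, rfl⟩
      refine (mem_maximalIdeal _).2 fun hu => (mem_maximalIdeal _).1 (hX i) ?_
      have h2 := hu.map mkF
      rw [hb i] at h2
      exact isUnit_of_map_unit ψ.toRingHom _ h2
    · refine Submodule.le_of_le_smul_of_le_jacobson_bot (I := maximalIdeal P) (IsNoetherian.noetherian _)
        (maximalIdeal_le_jacobson ⊥) ?_
      intro z hz
      have h2 : mkF.toRingHom z ∈ (Ideal.span (Set.range b)).map mkF.toRingHom := h1 ▸ Ideal.mem_map_of_mem _ hz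
      have h3 : z ∈ Ideal.span (Set.range b) ⊔ RingHom.ker mkF.toRingHom := by
        rw [RingHom.ker_eq_comap_bot, ← Ideal.comap_map_of_surjective mkF.toRingHom hmk]
        exact h2
      refine (sup_le_sup le_rfl ?_ : Ideal.span (Set.range b) ⊔ RingHom.ker mkF.toRingHom ≤ _) h3
      rw [smul_eq_mul, ← pow_two]
      intro x hx
      exact (Ideal.span_singleton_le_iff_mem _).2 hF (Ideal.Quotient.eq_zero_iff_mem.1 hx)
  obtain ⟨φ, hφ⟩ := exists_aut b hspan
  have hcomp : mkF.comp φ.toAlgHom = ψ := algHom_ext _ _ (fun i => by simp [hφ i, hb i]) (fun i => by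
    rw [← map_maximalIdeal_of_surjective mkF.toRingHom hmk]
    refine Ideal.mem_map_of_mem mkF.toRingHom ?_
    show φ (X i) ∈ maximalIdeal P
    rw [hφ i, ← hspan]
    exact Ideal.subset_span ⟨i, rfl⟩)
  have hdvd1 : F ∣ φ (X 1 ^ 2) := by
    rw [← Ideal.mem_span_singleton, ← Ideal.Quotient.eq_zero_iff_mem]
    refine (DFunLike.congr_fun hcomp (X 1 ^ 2)).trans ?_
    show e.symm (Ideal.Quotient.mk _ (X 1 ^ 2)) = 0
    rw [Ideal.Quotient.eq_zero_iff_mem.2 (Ideal.mem_span_singleton_self _), map_zero]
  have hdvd2 : φ (X 1 ^ 2) ∣ F := by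
    have h4 : e.symm (Ideal.Quotient.mk _ (φ.symm F)) = 0 := by
      refine (DFunLike.congr_fun hcomp (φ.symm F)).symm.trans ?_
      show Ideal.Quotient.mk _ (φ (φ.symm F)) = 0
      rw [φ.apply_symm_apply]
      exact Ideal.Quotient.eq_zero_iff_mem.2 (Ideal.mem_span_singleton_self _)
    rw [map_eq_zero_iff _ e.symm.injective, Ideal.Quotient.eq_zero_iff_mem, Ideal.mem_span_singleton] at h4
    simpa using map_dvd φ h4
  refine ⟨φ (X 1), ?_, ?_, (MulEquiv.prime_iff φ.toMulEquiv).2 (prime_X 1), ?_⟩
  · rw [← RegLoc.PS.mem_max k, hφ, ← hspan]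
    exact Ideal.subset_span ⟨1, rfl⟩
  · by_contra hc
    push Not at hc
    have h0 : constantCoeff (φ (X 1)) = 0 := by
      rw [← RegLoc.PS.mem_max k, hφ, ← hspan]
      exact Ideal.subset_span ⟨1, rfl⟩
    have h5 := aut_mem_pow φ.symm (mem_pow_iff.2 (ordGE_two_iff.2 ⟨h0, hc⟩))
    rw [φ.symm_apply_apply, mem_pow_iff, ordGE_two_iff] at h5
    simpa [lin_X] using h5.2 1
  · rw [← map_pow]
    exact associated_of_dvd_dvd hdvd1 hdvd2

/-- The germ at `a` as a ring map. -/
noncomputable def germHom (a : Fin 2 → k) : Pol →+* P :=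
  MvPolynomial.coeToMvPowerSeries.ringHom.comp (recentre a).toRingEquiv.toRingHom

theorem germHom_apply (a : Fin 2 → k) (f : Pol) : germHom a f = germ a f := rfl

theorem germ_injective (a : Fin 2 → k) : Function.Injective (germHom a) :=
  fun x y h => (recentre a).injective (MvPolynomial.coe_injective _ _ h)

/-- Two polynomials through `a` with a common branch have the irreducible one as a factor. -/
theorem dvd_of_common_branch (a : Fin 2 → k) {w : P} (hw : Prime w) {q s : Pol}
    (hq : Irreducible q) (hwq : w ∣ germ a q) (hws : w ∣ germ a s) : q ∣ s := by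
  by_contra hqs
  let p : Ideal Pol := (Ideal.span {w}).comap (germHom a)
  have hwp : (Ideal.span {w}).IsPrime := (Ideal.span_singleton_prime hw.ne_zero).2 hw
  haveI : p.IsPrime := Ideal.comap_isPrime _ _
  have hqp : (Ideal.span {q}).IsPrime := (Ideal.span_singleton_prime hq.ne_zero).2 hq.prime
  have hlt1 : (⊥ : Ideal Pol) < Ideal.span {q} := bot_lt_iff_ne_bot.2 (by simpa using hq.ne_zero)
  have hlt2 : Ideal.span {q} < p := by
    refine lt_of_le_not_ge ((Ideal.span_singleton_le_iff_mem _).2 (Ideal.mem_span_singleton.2 hwq)) fun h => hqs ?_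
    exact Ideal.mem_span_singleton.1 (h (Ideal.mem_span_singleton.2 hws))
  let M : Ideal Pol := RingHom.ker (MvPolynomial.eval a)
  haveI : M.IsMaximal := RingHom.ker_isMaximal_of_surjective _ fun c => ⟨MvPolynomial.C c, by simp⟩
  have hw0 : constantCoeff w = 0 := by
    by_contra h
    exact hw.not_unit (isUnit_iff_constantCoeff.2 (isUnit_iff_ne_zero.2 h))
  have hpM : p ≤ M := fun z hz => by
    obtain ⟨c, hc⟩ := Ideal.mem_span_singleton.1 (show germ a z ∈ Ideal.span {w} from hz)
    rw [RingHom.mem_ker, ← constantCoeff_germ, hc, map_mul, hw0, zero_mul]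
  have hne : p ≠ M := by
    intro h
    have hX : ∀ i, w ∣ (X i : P) := fun i => by
      have : (MvPolynomial.X i - MvPolynomial.C (a i) : Pol) ∈ p := by
        rw [h]; simp [M]
      have h1 := Ideal.mem_span_singleton.1 (show germ a _ ∈ Ideal.span {w} from this)
      simpa [germ, recentre_eq] using h1
    have h0 : (X 0 : P) ∣ w := (hw.irreducible.associated_of_dvd (prime_X 0).irreducible (hX 0)).symm.dvd
    have h1 := X_dvd_iff.1 (h0.trans (hX 1)) (Finsupp.single 1 1) (by simp)
    simp [coeff_index_single_self_X] at h1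
  have h1 := Ideal.height_strict_mono_of_isPrime hlt1
  have h2 := Ideal.height_strict_mono_of_isPrime hlt2
  have h3 := Ideal.height_strict_mono_of_isPrime (lt_of_le_of_ne hpM hne)
  have h4 : M.height ≤ 2 := by
    have := Ideal.height_le_ringKrullDim_of_ne_top (Ideal.IsMaximal.ne_top (I := M) inferInstance)
    rw [MvPolynomial.ringKrullDim_of_isNoetherianRing, ringKrullDim_eq_zero_of_field, zero_add, Nat.card_fin] at this
    exact WithBot.coe_le_coe.1 this
  generalize (⊥ : Ideal Pol).height = c0 at h1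
  generalize (Ideal.span {q}).height = c1 at h1 h2
  generalize p.height = c2 at h2 h3
  generalize M.height = c3 at h3 h4
  enat_to_nat
  omega

/-- All partial derivatives vanish only for non-irreducible polynomials. -/
theorem exists_pderiv_ne_zero [IsAlgClosed k] {q : Pol} (hq : Irreducible q) :
    ∃ i, MvPolynomial.pderiv i q ≠ 0 := by
  classical
  by_contra hc
  push Not at hc
  obtain ⟨p, hp⟩ := CharP.exists k
  have hco : ∀ (m : Fin 2 →₀ ℕ) (i : Fin 2), MvPolynomial.coeff m q ≠ 0 → (m i : k) = 0 := by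
    intro m i hm
    by_contra hmi
    have hmi' : m i ≠ 0 := fun h => hmi (by simp [h])
    have h1 := congrArg (MvPolynomial.coeff (m - Finsupp.single i 1)) (hc i)
    have e1 : m - Finsupp.single i 1 + Finsupp.single i 1 = m :=
      tsub_add_cancel_of_le (Finsupp.single_le_iff.2 (Nat.one_le_iff_ne_zero.2 hmi'))
    have e2 : ((m - Finsupp.single i 1 : Fin 2 →₀ ℕ) i : k) + 1 = m i := by
      have := DFunLike.congr_fun e1 i
      rw [Finsupp.add_apply, Finsupp.single_eq_same] at this
      exact_mod_cast congrArg (Nat.cast (R := k)) this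
    rw [MvPolynomial.coeff_pderiv, e1, e2, MvPolynomial.coeff_zero] at h1
    exact (mul_ne_zero hm hmi) h1
  rcases CharP.char_is_prime_or_zero k p with hpp | rfl
  · haveI := Fact.mk hpp
    haveI : ExpChar k p := ExpChar.prime hpp
    haveI : PerfectRing k p := PerfectField.toPerfectRing p
    have hdiv : ∀ m ∈ q.support, ∀ i, p ∣ m i := fun m hm i =>
      (CharP.cast_eq_zero_iff k p _).1 (hco m i (MvPolynomial.mem_support_iff.1 hm))
    let g : Pol := ∑ m ∈ q.support,
      MvPolynomial.monomial (m.mapRange (· / p) (Nat.zero_div p)) ((frobeniusEquiv k p).symm (MvPolynomial.coeff m q))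
    have hg : g ^ p = q := by
      rw [sum_pow_char]
      conv_rhs => rw [q.as_sum]
      refine Finset.sum_congr rfl fun m hm => ?_
      have e1 : p • m.mapRange (· / p) (Nat.zero_div p) = m := Finsupp.ext fun i => by
        simp [Nat.mul_div_cancel' (hdiv m hm i)]
      rw [MvPolynomial.monomial_pow, e1, frobeniusEquiv_symm_pow_p]
    exact not_irreducible_pow hpp.ne_one (hg ▸ hq)
  · haveI : CharZero k := CharP.charP_to_charZero k
    have hC : q = MvPolynomial.C (MvPolynomial.coeff 0 q) := by
      ext m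
      rw [MvPolynomial.coeff_C]
      split_ifs with h
      · rw [h]
      · by_contra hm
        exact h (Finsupp.ext fun i => by simpa using (hco m i hm)).symm
    rcases eq_or_ne (MvPolynomial.coeff 0 q) 0 with h | h
    · exact hq.ne_zero (by rw [hC, h, map_zero])
    · exact hq.not_isUnit (by rw [hC]; exact (isUnit_iff_ne_zero.2 h).map MvPolynomial.C)

/-- An irreducible polynomial does not divide a non-zero partial derivative of itself. -/
theorem not_dvd_pderiv {q : Pol} (hq : q ≠ 0) {i : Fin 2} (hi : MvPolynomial.pderiv i q ≠ 0) :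
    ¬ q ∣ MvPolynomial.pderiv i q := by
  classical
  rintro ⟨r, hr⟩
  have hr0 : r ≠ 0 := fun h => hi (by rw [hr, h, mul_zero])
  have hle : ∀ m ∈ (MvPolynomial.pderiv i q).support, m i + 1 ≤ MvPolynomial.degreeOf i q := fun m hm => by
    rw [MvPolynomial.mem_support_iff, MvPolynomial.coeff_pderiv] at hm
    have := MvPolynomial.monomial_le_degreeOf i (MvPolynomial.mem_support_iff.2 (left_ne_zero_of_mul hm))
    simpa using this
  obtain ⟨m, hm⟩ := MvPolynomial.support_nonempty.2 hi
  have h1 : MvPolynomial.degreeOf i (MvPolynomial.pderiv i q) ≤ MvPolynomial.degreeOf i q - 1 :=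
    MvPolynomial.degreeOf_le_iff.2 fun m hm => Nat.le_sub_one_of_lt (hle m hm)
  have h2 := congrArg (MvPolynomial.degreeOf i) hr
  rw [MvPolynomial.degreeOf_mul_eq hq hr0] at h2
  have := hle m hm
  omega

end GrothLib.PlaneGerm
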